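import Groth.Agent.L19.ProjNil
import Mathlib.RingTheory.Nakayama
import Mathlib.Algebra.Module.StablyFree.Basic
import Mathlib.LinearAlgebra.StdBasis
import Mathlib.LinearAlgebra.TensorProduct.Pi
import Mathlib.RingTheory.Finiteness.Prod

/-! The classes of modules used for lifting complexes along `R → R ⧸ I`. -/

set_option autoImplicit false

universe u

open scoped TensorProduct

namespace Groth.L10.LiftCx

variable {R : Type u} [CommRing R] (I : Ideal R)

theorem projective_snd (Y Z : Type u) [AddCommGroup Y] [Module R Y] [AddCommGroup Z] [Module R Z]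
    [Module.Projective R (Y × Z)] : Module.Projective R Z :=
  Module.Projective.of_split (LinearMap.inr R Y Z) (LinearMap.snd R Y Z) (LinearMap.ext fun _ => rfl)

theorem finite_snd (Y Z : Type u) [AddCommGroup Y] [Module R Y] [AddCommGroup Z] [Module R Z]
    [Module.Finite R (Y × Z)] : Module.Finite R Z :=
  Module.Finite.of_surjective (LinearMap.snd R Y Z) fun z => ⟨(0, z), rfl⟩

theorem surjective_of_nilpotent (hI : IsNilpotent I) {Y Z : Type u} [AddCommGroup Y] [Module R Y]
    [AddCommGroup Z] [Module R Z] (f : Y →ₗ[R] Z) (h : LinearMap.range f ⊔ I • (⊤ : Submodule R Z) = ⊤) :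
    Function.Surjective f := by
  obtain ⟨k, hk⟩ := hI
  have := Groth.L19.ProjNil.le_pow_smul_of_le I (N := (⊤ : Submodule R Z)) (K := LinearMap.range f)
    (by rw [sup_comm, h]) k
  rw [hk] at this
  exact LinearMap.range_eq_top.1 (top_le_iff.1 (by simpa using this))

theorem surjective_of_finite (hI : I ≤ Ideal.jacobson (⊥ : Ideal R)) {Y Z : Type u} [AddCommGroup Y] [Module R Y]
    [AddCommGroup Z] [Module R Z] [Module.Finite R Z] (f : Y →ₗ[R] Z)
    (h : LinearMap.range f ⊔ I • (⊤ : Submodule R Z) = ⊤) : Function.Surjective f :=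
  LinearMap.range_eq_top.1 (top_le_iff.1
    (Submodule.le_of_le_smul_of_le_jacobson_bot Module.Finite.fg_top hI h.ge))

theorem stablyFree_prod (Y Q : Type u) [AddCommGroup Y] [Module R Y] [AddCommGroup Q] [Module R Q]
    [Module.IsStablyFree R Y] [Module.Finite R Q] [Module.Free R Q] : Module.IsStablyFree R (Y × Q) := by
  obtain ⟨N, _, _, _, _, _⟩ := Module.IsStablyFree.exist_free_prod R Y
  let e : ((Y × N) × Q) ≃ₗ[R] ((Y × Q) × N) :=
    { toFun := fun w => ((w.1.1, w.2), w.1.2)
      map_add' := fun _ _ => rfl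
      map_smul' := fun _ _ => rfl
      invFun := fun w => ((w.1.1, w.2), w.1.2)
      left_inv := fun _ => rfl
      right_inv := fun _ => rfl }
  haveI := Module.Free.of_equiv e
  exact Module.IsStablyFree.of_free_prod R (Y × Q) N

theorem stablyFree_snd (Y Z : Type u) [AddCommGroup Y] [Module R Y] [AddCommGroup Z] [Module R Z]
    [Module.Finite R Y] [Module.IsStablyFree R Y] [Module.IsStablyFree R (Y × Z)] : Module.IsStablyFree R Z := by
  obtain ⟨N, _, _, _, _, hN⟩ := Module.IsStablyFree.exist_free_prod R Y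
  obtain ⟨M, _, _, _, _, hM⟩ := Module.IsStablyFree.exist_free_prod R (Y × Z)
  let e : (((Y × Z) × M) × N) ≃ₗ[R] (Z × ((Y × N) × M)) :=
    { toFun := fun w => (w.1.1.2, ((w.1.1.1, w.2), w.1.2))
      map_add' := fun _ _ => rfl
      map_smul' := fun _ _ => rfl
      invFun := fun w => (((w.2.1.1, w.1), w.2.2), w.2.1.2)
      left_inv := fun _ => rfl
      right_inv := fun _ => rfl }
  haveI := Module.Free.of_equiv e
  exact Module.IsStablyFree.of_free_prod R Z ((Y × N) × M)

theorem exists_free_lift (E : Type u) [AddCommGroup E] [Module (R ⧸ I) E] [Module.Finite (R ⧸ I) E]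
    [Module.Free (R ⧸ I) E] :
    ∃ n : ℕ, Nonempty ((R ⧸ I) ⊗[R] (Fin n → R) ≃ₗ[R ⧸ I] E) := by
  let b := Module.Free.chooseBasis (R ⧸ I) E
  exact ⟨_, ⟨(TensorProduct.piScalarRight R (R ⧸ I) (R ⧸ I) _).trans
    (((b.reindex (Fintype.equivFin _)).equivFun).symm)⟩⟩

/-- finite stably free modules lift -/
theorem exists_stablyFree_lift (hI : I ≤ Ideal.jacobson (⊥ : Ideal R)) (E : Type u) [AddCommGroup E]
    [Module (R ⧸ I) E] [Module.Finite (R ⧸ I) E] [Module.IsStablyFree (R ⧸ I) E] :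
    ∃ (Z : Type u) (_ : AddCommGroup Z) (_ : Module R Z), Module.Finite R Z ∧ Module.IsStablyFree R Z ∧
      Nonempty ((R ⧸ I) ⊗[R] Z ≃ₗ[R ⧸ I] E) := by
  classical
  obtain ⟨N, _, _, _, _, _⟩ := Module.IsStablyFree.exist_free_prod (R ⧸ I) E
  obtain ⟨m, ⟨bN⟩⟩ : ∃ m : ℕ, Nonempty (Module.Basis (Fin m) (R ⧸ I) N) :=
    ⟨_, ⟨(Module.Free.chooseBasis (R ⧸ I) N).reindex (Fintype.equivFin _)⟩⟩
  obtain ⟨n, ⟨bT⟩⟩ : ∃ n : ℕ, Nonempty (Module.Basis (Fin n) (R ⧸ I) (E × N)) :=
    ⟨_, ⟨(Module.Free.chooseBasis (R ⧸ I) (E × N)).reindex (Fintype.equivFin _)⟩⟩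
  let w : (Fin n → R ⧸ I) ≃ₗ[R ⧸ I] E × (Fin m → R ⧸ I) :=
    bT.equivFun.symm.trans ((LinearEquiv.refl (R ⧸ I) E).prodCongr bN.equivFun)
  letI : Module R E := Module.compHom E (Ideal.Quotient.mk I)
  haveI : IsScalarTower R (R ⧸ I) E := IsScalarTower.of_algebraMap_smul fun _ _ => rfl
  let π : ∀ k : ℕ, (Fin k → R) →ₗ[R] (Fin k → R ⧸ I) := fun k =>
    (Algebra.linearMap R (R ⧸ I)).compLeft (Fin k)
  have hπs : ∀ k, Function.Surjective (π k) := fun k y =>
    ⟨fun j => Quotient.out (y j), funext fun j => Ideal.Quotient.mk_out (y j)⟩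
  have hπk : ∀ k x, π k x = 0 → x ∈ I • (⊤ : Submodule R (Fin k → R)) := fun k x hx => by
    rw [pi_eq_sum_univ' x]
    exact Submodule.sum_mem _ fun j _ =>
      Submodule.smul_mem_smul (Ideal.Quotient.eq_zero_iff_mem.1 (congrFun hx j)) trivial
  choose c hc using fun j => hπs m (w (π n (Pi.single j 1))).2
  let f : (Fin n → R) →ₗ[R] (Fin m → R) := (Pi.basisFun R (Fin n)).constr R c
  have hf : ∀ x, π m (f x) = (w (π n x)).2 := fun x => by
    have : (π m).comp f = ((LinearMap.snd (R ⧸ I) E (Fin m → R ⧸ I)).restrictScalars R).comp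
        ((w.toLinearMap.restrictScalars R).comp (π n)) :=
      (Pi.basisFun R (Fin n)).ext fun j => by
        simp only [LinearMap.comp_apply, f, Module.Basis.constr_basis]
        rw [hc, Pi.basisFun_apply]
        rfl
    exact LinearMap.congr_fun this x
  have hfs : Function.Surjective f := surjective_of_finite I hI f (top_le_iff.1 fun y _ => by
    obtain ⟨x, hx⟩ := hπs n (w.symm (0, π m y))
    refine Submodule.mem_sup.2 ⟨f x, ⟨x, rfl⟩, y - f x, hπk m _ ?_, add_sub_cancel _ _⟩
    rw [map_sub, hf, hx, LinearEquiv.apply_symm_apply, sub_self])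
  obtain ⟨s, hs⟩ := Module.projective_lifting_property f LinearMap.id hfs
  have hs' : ∀ y, f (s y) = y := fun y => LinearMap.congr_fun hs y
  let Z := LinearMap.ker f
  let r : (Fin n → R) →ₗ[R] Z := (LinearMap.id - s.comp f).codRestrict Z fun x => by
    show f (x - s (f x)) = 0
    rw [map_sub, hs', sub_self]
  let e : (Fin n → R) ≃ₗ[R] Z × (Fin m → R) :=
    { r.prod f with
      invFun := fun v => v.1.1 + s v.2
      left_inv := fun x => show x - s (f x) + s (f x) = x from sub_add_cancel _ _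
      right_inv := fun v => by
        have h : f (v.1.1 + s v.2) = v.2 := by rw [map_add, show f v.1.1 = 0 from v.1.2, hs', zero_add]
        refine Prod.ext (Subtype.ext ?_) h
        show v.1.1 + s v.2 - s (f (v.1.1 + s v.2)) = v.1.1
        rw [h, add_sub_cancel_right] }
  haveI : Module.Free R (Z × (Fin m → R)) := Module.Free.of_equiv e
  haveI : Module.Finite R Z := Module.Finite.of_surjective r fun z => ⟨z.1, Subtype.ext (by
    show z.1 - s (f z.1) = z.1
    rw [show f z.1 = 0 from z.2, map_zero, sub_zero])⟩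
  let g : Z →ₗ[R] E := ((LinearMap.fst (R ⧸ I) E (Fin m → R ⧸ I)).restrictScalars R).comp
    ((w.toLinearMap.restrictScalars R).comp ((π n).comp Z.subtype))
  have hg2 : ∀ z : Z, (w (π n z.1)).2 = 0 := fun z => by rw [← hf, show f z.1 = 0 from z.2, map_zero]
  have hI0 : ∀ x ∈ I • (⊤ : Submodule R (Fin n → R)), π n x = 0 := fun x hx =>
    Submodule.smul_induction_on hx
      (fun a ha t _ => funext fun j => Ideal.Quotient.eq_zero_iff_mem.2 (Ideal.mul_mem_right _ _ ha))
      fun a b ha hb => by rw [map_add, ha, hb, add_zero]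
  have hgk : ∀ z, g z = 0 → (1 : R ⧸ I) ⊗ₜ[R] z = 0 := fun z hz => by
    refine Groth.L19.ProjNil.mk_eq_zero_of_mem_smul_top I ?_
    have h0 : π n z.1 = 0 := w.map_eq_zero_iff.1 (Prod.ext hz (hg2 z))
    have := Submodule.mem_map_of_mem (f := r) (hπk n _ h0)
    rw [Submodule.map_smul''] at this
    have hr : r z.1 = z := Subtype.ext (by
      show z.1 - s (f z.1) = z.1
      rw [show f z.1 = 0 from z.2, map_zero, sub_zero])
    rw [hr] at this
    exact Submodule.smul_mono le_rfl le_top this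
  have hgs : Function.Surjective g := fun y => by
    obtain ⟨x, hx⟩ := hπs n (w.symm (y, 0))
    have hfx : f x ∈ I • (⊤ : Submodule R (Fin m → R)) :=
      hπk m _ (by rw [hf, hx, LinearEquiv.apply_symm_apply])
    have := Submodule.mem_map_of_mem (f := s) hfx
    rw [Submodule.map_smul''] at this
    refine ⟨r x, ?_⟩
    show (w (π n (x - s (f x)))).1 = y
    rw [map_sub, hI0 _ (Submodule.smul_mono le_rfl le_top this), sub_zero, hx, LinearEquiv.apply_symm_apply]
  let l : (R ⧸ I) ⊗[R] Z →ₗ[R ⧸ I] E := g.liftBaseChange (R ⧸ I)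
  have hl : ∀ z, l ((1 : R ⧸ I) ⊗ₜ[R] z) = g z := fun z => by
    show (1 : R ⧸ I) • g z = g z
    rw [one_smul]
  refine ⟨Z, inferInstance, inferInstance, inferInstance, Module.IsStablyFree.of_free_prod R Z (Fin m → R),
    ⟨LinearEquiv.ofBijective l ⟨(injective_iff_map_eq_zero _).2 fun x hx => ?_, fun y => ?_⟩⟩⟩
  · obtain ⟨z, rfl⟩ := TensorProduct.mk_surjective R Z (R ⧸ I) Ideal.Quotient.mk_surjective x
    exact hgk z ((hl z).symm.trans hx)
  · obtain ⟨z, rfl⟩ := hgs y
    exact ⟨_, hl z⟩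

end Groth.L10.LiftCx
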