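import Groth.Agent.L10.DRing.LiftCx.Main
import Groth.Agent.L02.PC.BaseChange
import Groth.Prelude.Def_DDual2
import Mathlib.Algebra.Category.ModuleCat.Projective

/-! Lifting representatives of derived reductions. -/

set_option autoImplicit false

universe u

open CategoryTheory CategoryTheory.Limits
open scoped TensorProduct

attribute [local instance] HasDerivedCategory.standard

set_option backward.isDefEq.respectTransparency false
set_option backward.isDefEq.respectTransparency.types false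

namespace Groth.L10.LiftCx

variable {R : Type u} [CommRing R] {I : Ideal R}

/-- base change of modules along `R → R ⧸ I` -/
noncomputable def tensorIso (M : ModuleCat.{u} R) (N : ModuleCat.{u} (R ⧸ I)) (g : (R ⧸ I) ⊗[R] M ≃ₗ[R ⧸ I] N) :
    (ModuleCat.extendScalars.{u, u, u} (Ideal.Quotient.mk I)).obj M ≅ N :=
  ((Groth.L29.FlatBC.extEquiv R (R ⧸ I) M).trans g).toModuleIso

theorem projective_red {M : ModuleCat.{u} R} {N : ModuleCat.{u} (R ⧸ I)} [Module.Projective R M]
    (e : (ModuleCat.extendScalars.{u, u, u} (Ideal.Quotient.mk I)).obj M ≅ N) : Module.Projective (R ⧸ I) N :=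
  Module.Projective.of_equiv ((Groth.L29.FlatBC.extEquiv R (R ⧸ I) M).symm.trans e.toLinearEquiv)

theorem isKProjective_of_vanishesAbove {A : Type u} [CommRing A] (P : DRing.Cx A) (b : ℤ)
    (hb : DRing.VanishesAbove P b) (hp : ∀ i, Module.Projective A (P.X i)) : P.IsKProjective :=
  haveI : P.IsStrictlyLE b := (CochainComplex.isStrictlyLE_iff _ _).2 hb
  haveI : ∀ i, Projective (P.X i) := fun i => (IsProjective.iff_projective _).1 (hp i)
  CochainComplex.isKProjective_of_projective P b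

/-- representatives of the derived reduction lift -/
theorem exists_rep_lift [DRing.HasLBaseChange (Ideal.Quotient.mk I)] (K : Dual.D R)
    (Q : DRing.Cx R) (c : ℤ) (hQb : DRing.VanishesAbove Q c) (eQ : DRing.toD Q ≅ K)
    (Pc : ObjectProperty (ModuleCat.{u} R)) [Pc.IsClosedUnderIsomorphisms]
    (hproj : ∀ Y, Pc Y → Module.Projective R Y) (hQ : ∀ i, Module.Projective R (Q.X i))
    (hcancel : ∀ Y Z : ModuleCat.{u} R, Pc Y → Pc (ModuleCat.of R (Y × Z)) → Pc Z)
    (hsurj : ∀ (Y Z : ModuleCat.{u} R) (f : Y ⟶ Z), Pc Y → Pc Z →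
      LinearMap.range f.hom ⊔ I • (⊤ : Submodule R Z) = ⊤ → Function.Surjective f.hom)
    (hprod : ∀ (Y : ModuleCat.{u} R) (i : ℤ), Pc Y → Pc (ModuleCat.of R (Y × Q.X i)))
    (E : DRing.Cx (R ⧸ I)) (b : ℤ) (hEb : DRing.VanishesAbove E b)
    (hE : Nonempty (DRing.toD E ≅ (DRing.LBaseChange (Ideal.Quotient.mk I)).obj K))
    (X : ℤ → ModuleCat.{u} R) (hX : ∀ i, Pc (X i))
    (e : ∀ i, (ModuleCat.extendScalars.{u, u, u} (Ideal.Quotient.mk I)).obj (X i) ≅ E.X i) :
    ∃ P : DRing.Cx R, DRing.VanishesAbove P b ∧ (∀ i, P.X i = X i) ∧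
      Nonempty (DRing.toD P ≅ K) ∧ Nonempty ((redCx I).obj P ≅ E) := by
  obtain ⟨eE⟩ := hE
  haveI := isKProjective_of_vanishesAbove Q c hQb hQ
  haveI := isKProjective_of_vanishesAbove E b hEb fun i =>
    haveI := hproj _ (hX i)
    projective_red (e i)
  let e' : DRing.toD E ≅ DRing.toD ((redCx I).obj Q) :=
    eE ≪≫ (DRing.LBaseChange (Ideal.Quotient.mk I)).mapIso eQ.symm ≪≫ Groth.L02.PC.lbcIso (Ideal.Quotient.mk I) Q
  obtain ⟨α, hα⟩ := Groth.L02.PC.exists_chainMap e'.hom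
  haveI : QuasiIso α := (DerivedCategory.isIso_Q_map_iff_quasiIso _ α).1 (hα ▸ inferInstance)
  obtain ⟨P, f, hf, hPX, hPb, hPE⟩ :=
    exists_lift Q c hQb Pc hproj hcancel hsurj E b hEb α X hX (fun i => hprod _ i (hX (i + 1))) e
  haveI := hf
  haveI : IsIso (DerivedCategory.Q.map f) := (DerivedCategory.isIso_Q_map_iff_quasiIso _ f).2 hf
  exact ⟨P, hPb, hPX, ⟨asIso (DerivedCategory.Q.map f) ≪≫ eQ⟩, hPE⟩

/-- bounded above acyclic complexes lift -/
theorem exists_acyclic_lift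
    (Pc : ObjectProperty (ModuleCat.{u} R)) [Pc.IsClosedUnderIsomorphisms]
    (hproj : ∀ Y, Pc Y → Module.Projective R Y)
    (hcancel : ∀ Y Z : ModuleCat.{u} R, Pc Y → Pc (ModuleCat.of R (Y × Z)) → Pc Z)
    (hsurj : ∀ (Y Z : ModuleCat.{u} R) (f : Y ⟶ Z), Pc Y → Pc Z →
      LinearMap.range f.hom ⊔ I • (⊤ : Submodule R Z) = ⊤ → Function.Surjective f.hom)
    (E : DRing.Cx (R ⧸ I)) (b : ℤ) (hEb : DRing.VanishesAbove E b) (hEa : E.Acyclic)
    (X : ℤ → ModuleCat.{u} R) (hX : ∀ i, Pc (X i))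
    (e : ∀ i, (ModuleCat.extendScalars.{u, u, u} (Ideal.Quotient.mk I)).obj (X i) ≅ E.X i) :
    ∃ P : DRing.Cx R, DRing.VanishesAbove P b ∧ P.Acyclic ∧ (∀ i, P.X i = X i) ∧
      Nonempty ((redCx I).obj P ≅ E) := by
  let Q : DRing.Cx R := HomologicalComplex.zero
  have hQ : IsZero Q := HomologicalComplex.isZero_zero
  have hQX : ∀ i, IsZero (Q.X i) := fun i =>
    (HomologicalComplex.eval (ModuleCat.{u} R) (ComplexShape.up ℤ) i).map_isZero hQ
  haveI : QuasiIso (0 : E ⟶ (redCx I).obj Q) :=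
    (quasiIso_iff _).2 fun i => (quasiIsoAt_iff_isIso_homologyMap _ i).2
      ⟨⟨0, ((HomologicalComplex.exactAt_iff_isZero_homology _ i).1 (hEa i)).eq_of_src _ _,
        ((HomologicalComplex.homologyFunctor _ _ i).map_isZero ((redCx I).map_isZero hQ)).eq_of_src _ _⟩⟩
  obtain ⟨P, f, hf, hPX, hPb, hPE⟩ :=
    exists_lift Q 0 (fun i _ => hQX i) Pc hproj hcancel hsurj E b hEb (0 : E ⟶ (redCx I).obj Q) X hX
      (fun i => by
        haveI := ModuleCat.subsingleton_of_isZero (hQX i)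
        let z : ↑(X (i + 1)) ≃ₗ[R] (↑(X (i + 1)) × ↑(Q.X i)) :=
          { LinearMap.inl R _ _ with
            invFun := Prod.fst
            left_inv := fun _ => rfl
            right_inv := fun w => Prod.ext rfl (Subsingleton.elim _ _) }
        exact Pc.prop_of_iso (z.toModuleIso (X₂ := ↑(X (i + 1)) × ↑(Q.X i))) (hX (i + 1))) e
  haveI := hf
  refine ⟨P, hPb, fun i => (HomologicalComplex.exactAt_iff_isZero_homology _ i).2 ?_, hPX, hPE⟩
  exact ((HomologicalComplex.homologyFunctor _ _ i).map_isZero hQ).of_iso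
    (asIso (HomologicalComplex.homologyMap f i))

end Groth.L10.LiftCx
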