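import Groth.Agent.L10.DRing.LiftCx.Step
import Groth.Agent.L29.Dual.FlatBC
import Groth.Agent.L00.CellTower
import Groth.Agent.L00.ConeTransfer
import Groth.Agent.L19.ProjNil

/-! Lifting a bounded above complex along `R → R ⧸ I`, compatibly with a map to a complex over `R`. -/

set_option autoImplicit false

universe u

open CategoryTheory CategoryTheory.Limits

set_option backward.isDefEq.respectTransparency false
set_option backward.isDefEq.respectTransparency.types false

namespace Groth.L10.LiftCx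

variable {R : Type u} [CommRing R] {I : Ideal R}

/-- reduction modulo `I` of complexes -/
noncomputable abbrev redCx (I : Ideal R) : DRing.Cx R ⥤ DRing.Cx (R ⧸ I) :=
  (ModuleCat.extendScalars.{u, u, u} (Ideal.Quotient.mk I)).mapHomologicalComplex (ComplexShape.up ℤ)

/-- the reduction map of a module -/
noncomputable def eta (I : Ideal R) (M : ModuleCat.{u} R) :
    M →ₛₗ[Ideal.Quotient.mk I] (ModuleCat.extendScalars.{u, u, u} (Ideal.Quotient.mk I)).obj M :=
  LinearMap.comp (σ₁₂ := Ideal.Quotient.mk I) (σ₂₃ := RingHom.id (R ⧸ I)) (σ₁₃ := Ideal.Quotient.mk I)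
    (Groth.L29.FlatBC.extEquiv R (R ⧸ I) M).symm.toLinearMap
    { toFun := fun m => (1 : R ⧸ I) ⊗ₜ[R] m
      map_add' := fun a b => TensorProduct.tmul_add _ a b
      map_smul' := fun r m => by
        rw [TensorProduct.tmul_smul, ← IsScalarTower.algebraMap_smul (R ⧸ I) r]
        rfl }

theorem eta_surjective (I : Ideal R) (M : ModuleCat.{u} R) : Function.Surjective (eta I M) := fun y => by
  obtain ⟨z, rfl⟩ := (Groth.L29.FlatBC.extEquiv R (R ⧸ I) M).symm.surjective y
  obtain ⟨m, hm⟩ := TensorProduct.mk_surjective R M (R ⧸ I) Ideal.Quotient.mk_surjective z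
  exact ⟨m, congrArg (Groth.L29.FlatBC.extEquiv R (R ⧸ I) M).symm hm⟩

theorem eta_ker (I : Ideal R) (M : ModuleCat.{u} R) (x : M) (hx : eta I M x = 0) :
    x ∈ I • (⊤ : Submodule R M) :=
  Groth.L19.ProjNil.mem_smul_top_of_mk_eq_zero I
    ((Groth.L29.FlatBC.extEquiv R (R ⧸ I) M).symm.map_eq_zero_iff.1 hx)

theorem eta_natural (I : Ideal R) {M N : ModuleCat.{u} R} (f : M ⟶ N) (x : M) :
    eta I N (f.hom x) = ((ModuleCat.extendScalars.{u, u, u} (Ideal.Quotient.mk I)).map f).hom (eta I M x) := rfl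

theorem hom_ext_eta (I : Ideal R) {M : ModuleCat.{u} R} {N : ModuleCat.{u} (R ⧸ I)}
    {f g : (ModuleCat.extendScalars.{u, u, u} (Ideal.Quotient.mk I)).obj M ⟶ N}
    (h : ∀ x, f.hom (eta I M x) = g.hom (eta I M x)) : f = g :=
  ModuleCat.hom_ext (LinearMap.ext fun y => by
    obtain ⟨x, rfl⟩ := eta_surjective I M y
    exact h x)

variable {Q : DRing.Cx R} {E QB : DRing.Cx (R ⧸ I)} {α : E ⟶ QB}
variable {X : ℤ → ModuleCat.{u} R}
variable {p : ∀ i, X i →ₛₗ[Ideal.Quotient.mk I] E.X i} {η : ∀ i, Q.X i →ₛₗ[Ideal.Quotient.mk I] QB.X i}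
variable {Pc : ObjectProperty (ModuleCat.{u} R)}

theorem Good.congr {u u' : ∀ i, X i →ₗ[R] C Q X i} {i : ℤ} (h : u (i + 1) = u' (i + 1))
    (hg : Good I Q E QB α X p η Pc u i) : Good I Q E QB α X p η Pc u' i := by
  have : D Q X u i = D Q X u' i := by rw [D, D, h]
  unfold Good at hg ⊢
  rwa [this] at hg

theorem Exact'.congr {u u' : ∀ i, X i →ₗ[R] C Q X i} {i : ℤ} (h : u (i + 1) = u' (i + 1))
    (h' : u (i + 1 + 1) = u' (i + 1 + 1)) (hg : Exact' Q X u i) : Exact' Q X u' i := by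
  have h1 : D Q X u i = D Q X u' i := by rw [D, D, h]
  have h2 : D Q X u (i + 1) = D Q X u' (i + 1) := by rw [D, D, h']
  unfold Exact' at hg ⊢
  rwa [h1, h2] at hg

theorem subsingleton_X (H : Hyp I Q E QB α X p η Pc) (i : ℤ) (h : Subsingleton (E.X i)) : Subsingleton (X i) := by
  have hs := H.surj (X i) (X i) 0 (H.pX i) (H.pX i) (top_le_iff.1 fun x _ =>
    Submodule.mem_sup_right (H.p_ker i x (Subsingleton.elim _ _)))
  exact ⟨fun a b => by
    obtain ⟨_, rfl⟩ := hs a
    obtain ⟨_, rfl⟩ := hs b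
    rfl⟩

theorem exists_family (H : Hyp I Q E QB α X p η Pc) (N : ℤ)
    (hE : ∀ i, N ≤ i → Subsingleton (E.X i)) (hQ : ∀ i, N ≤ i → Subsingleton (Q.X i)) :
    ∃ u : ∀ i, X i →ₗ[R] C Q X i, ∀ i, Good I Q E QB α X p η Pc u i ∧ Exact' Q X u i := by
  classical
  have hC : ∀ i, N ≤ i → Subsingleton (C Q X i) := fun i hi =>
    haveI := subsingleton_X H (i + 1) (hE _ (by omega))
    haveI := hQ i hi
    inferInstance
  have hB : ∀ i, N ≤ i → Subsingleton (E.X (i + 1) × QB.X i) := fun i hi =>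
    haveI := hE (i + 1) (by omega)
    haveI := hQ i hi
    haveI : Subsingleton (QB.X i) := (H.η_surj i).subsingleton
    inferInstance
  let Inv : (∀ i, X i →ₗ[R] C Q X i) → ℤ → Prop := fun u n =>
    ∀ i, n ≤ i → Good I Q E QB α X p η Pc u i ∧ Exact' Q X u i
  have h0 : Inv (fun _ => 0) N := fun i hi => by
    haveI := hC i hi
    haveI := hC (i + 1) (by omega)
    haveI := hB i hi
    haveI := hB (i + 1) (by omega)
    haveI := H.iso
    refine ⟨⟨fun z => Subsingleton.elim _ _, ?_, fun w _ => ⟨0, Subsingleton.elim _ _, Subsingleton.elim _ _⟩,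
      fun z _ _ => by rw [Subsingleton.elim z 0]; exact zero_mem _⟩, ?_⟩
    · let e : (LinearMap.ker (D Q X (fun _ => 0) i)) ≃ₗ[R] C Q X i :=
        LinearEquiv.ofBijective (Submodule.subtype _) ⟨Subtype.val_injective, fun x => ⟨⟨x, Subsingleton.elim _ _⟩, rfl⟩⟩
      exact Pc.prop_of_iso (e.symm.toModuleIso (X₁ := C Q X i) (X₂ := LinearMap.ker (D Q X (fun _ => 0) i))) (H.pC i)
    · exact Submodule.ext fun z => by rw [Subsingleton.elim z 0]; exact iff_of_true (zero_mem _) (zero_mem _)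
  have hstep : ∀ (k : ℕ) (u : {u // Inv u (N - k)}), ∃ u' : {u // Inv u (N - (k + 1 : ℕ))},
      ∀ j, j ≠ N - (k + 1 : ℕ) + 1 → u'.1 j = u.1 j := by
    rintro k ⟨u, hu⟩
    obtain ⟨v, hv⟩ := step H u (N - (k + 1 : ℕ)) (hu _ (by omega)).1
    refine ⟨⟨Function.update u (N - (k + 1 : ℕ) + 1) v, fun i hi => ?_⟩, fun j hj => Function.update_of_ne hj _ _⟩
    rcases hi.eq_or_lt with rfl | hlt
    · exact hv _ (Function.update_self _ _ _) (Function.update_of_ne (by omega) _ _)
    · obtain ⟨h1, h2⟩ := hu i (by omega)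
      exact ⟨h1.congr (Function.update_of_ne (by omega) _ _).symm,
        h2.congr (Function.update_of_ne (by omega) _ _).symm (Function.update_of_ne (by omega) _ _).symm⟩
  choose F hF using hstep
  let U : (k : ℕ) → {u // Inv u (N - (k : ℤ))} := fun k =>
    Nat.rec (motive := fun k => {u // Inv u (N - (k : ℤ))}) ⟨_, by simpa using h0⟩ (fun k u => F k u) k
  have hstab : ∀ (k m : ℕ) (j : ℤ), N + 1 - j ≤ k → (U (k + m)).1 j = (U k).1 j := fun k m j hj => by
    induction m with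
    | zero => rfl
    | succ m ih => exact (hF (k + m) (U (k + m)) j (by omega)).trans ih
  let uF : ∀ j, X j →ₗ[R] C Q X j := fun j => (U (N + 1 - j).toNat).1 j
  refine ⟨uF, fun i => ?_⟩
  have hk : ∀ j, i < j → uF j = (U (N - i).toNat).1 j := fun j hj => by
    show (U (N + 1 - j).toNat).1 j = _
    obtain ⟨m, hm⟩ := Nat.exists_eq_add_of_le (show (N + 1 - j).toNat ≤ (N - i).toNat by omega)
    rw [hm, hstab _ m j (by omega)]
  obtain ⟨h1, h2⟩ := (U (N - i).toNat).2 i (by omega)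
  exact ⟨h1.congr (hk _ (by omega)).symm, h2.congr (hk _ (by omega)).symm (hk _ (by omega)).symm⟩

theorem quasiIso_of_coneExact {P K : DRing.Cx R} (f : P ⟶ K)
    (h : ∀ a b c d : ℤ, a + 1 = b → b + 1 = c → c + 1 = d → Groth.L02.PC.ConeExact f a b c d) : QuasiIso f :=
  Groth.L00.Cell.quasiIso_of_acyclic_cone f fun n =>
    (Groth.L02.PC.coneExact_iff f (n - 1) n (n + 1) (n + 1 + 1) (by omega) rfl rfl).1
      (h _ _ _ _ (by omega) rfl rfl)

/-- a bounded above complex over `R ⧸ I` with liftable terms, quasi-isomorphic to the reduction of `Q`,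
lifts to a complex quasi-isomorphic to `Q` -/
theorem exists_lift (Q : DRing.Cx R) (c : ℤ) (hQb : DRing.VanishesAbove Q c)
    (Pc : ObjectProperty (ModuleCat.{u} R)) [Pc.IsClosedUnderIsomorphisms]
    (hproj : ∀ Y, Pc Y → Module.Projective R Y)
    (hcancel : ∀ Y Z : ModuleCat.{u} R, Pc Y → Pc (ModuleCat.of R (Y × Z)) → Pc Z)
    (hsurj : ∀ (Y Z : ModuleCat.{u} R) (f : Y ⟶ Z), Pc Y → Pc Z →
      LinearMap.range f.hom ⊔ I • (⊤ : Submodule R Z) = ⊤ → Function.Surjective f.hom)
    (E : DRing.Cx (R ⧸ I)) (b : ℤ) (hEb : DRing.VanishesAbove E b)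
    (α : E ⟶ (redCx I).obj Q) [QuasiIso α]
    (X : ℤ → ModuleCat.{u} R) (hX : ∀ i, Pc (X i))
    (hC : ∀ i, Pc (ModuleCat.of R (X (i + 1) × Q.X i)))
    (e : ∀ i, (ModuleCat.extendScalars.{u, u, u} (Ideal.Quotient.mk I)).obj (X i) ≅ E.X i) :
    ∃ (P : DRing.Cx R) (f : P ⟶ Q), QuasiIso f ∧ (∀ i, P.X i = X i) ∧
      DRing.VanishesAbove P b ∧ Nonempty ((redCx I).obj P ≅ E) := by
  let p : ∀ i, X i →ₛₗ[Ideal.Quotient.mk I] E.X i := fun i => (e i).hom.hom.comp (eta I (X i))
  have H : Hyp I Q E ((redCx I).obj Q) α X p (fun i => eta I (Q.X i)) Pc :=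
    { iso := inferInstance
      proj := hproj
      cancel := hcancel
      surj := hsurj
      pX := hX
      pC := hC
      p_surj := fun i y => by
        obtain ⟨x, hx⟩ := eta_surjective I (X i) ((e i).inv.hom y)
        exact ⟨x, by
          show (e i).hom.hom (eta I (X i) x) = y
          rw [hx]; exact (e i).toLinearEquiv.apply_symm_apply y⟩
      p_ker := fun i x hx => eta_ker I (X i) x ((e i).toLinearEquiv.map_eq_zero_iff.1 hx)
      η_surj := fun i => eta_surjective I (Q.X i)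
      η_ker := fun i x hx => eta_ker I (Q.X i) x hx
      η_d := fun i j x => eta_natural I (Q.d i j) x
      exact := fun h i j k hhi hij hjk => (Groth.L02.PC.coneExact_iff α h i j k hhi hij hjk).2
        (Groth.L00.ConeTransfer.acyclic_cone α i) }
  obtain ⟨u, hu⟩ := exists_family H (max b c + 1)
    (fun i hi => ModuleCat.subsingleton_of_isZero (hEb i (by omega)))
    (fun i hi => ModuleCat.subsingleton_of_isZero (hQb i (by omega)))
  let d : ∀ i, X i ⟶ X (i + 1) := fun i => -ModuleCat.ofHom ((LinearMap.fst R _ _).comp (u i))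
  have hker : ∀ (j : ℤ) (x : X (j + 1)), D Q X u (j + 1) (u (j + 1) x) = 0 := fun j x => by
    have h : u (j + 1) x ∈ LinearMap.range (D Q X u j) := ⟨(x, 0), by simp [D_apply]⟩
    rwa [(hu j).2] at h
  have hker' : ∀ (j : ℤ) (x : X j), D Q X u j (u j x) = 0 := fun j => by
    obtain ⟨k, rfl⟩ : ∃ k, j = k + 1 := ⟨j - 1, by omega⟩
    exact hker k
  have hd : ∀ i x, (d i).hom x = -(u i x).1 := fun _ _ => rfl
  let P : DRing.Cx R := CochainComplex.of X d fun j => ModuleCat.hom_ext (LinearMap.ext fun x => by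
    have h := congrArg Prod.fst (hker' j x)
    simp only [D_apply, Prod.fst_add, add_zero, Prod.fst_zero] at h
    simpa [hd] using h)
  have hPd : ∀ j x, (P.d j (j + 1)).hom x = -(u j x).1 := fun j x => by
    show ((CochainComplex.of X d _).d j (j + 1)).hom x = _
    show (CochainComplex.of.d (V := ModuleCat.{u} R) X d j (j + 1)).hom x = _
    rw [CochainComplex.of_d]; rfl
  let f : P ⟶ Q :=
    { f := fun j => ModuleCat.ofHom ((LinearMap.snd R _ _).comp (u j))
      comm' := fun j k hjk => by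
        obtain rfl : j + 1 = k := hjk
        refine ModuleCat.hom_ext (LinearMap.ext fun x => ?_)
        have h := congrArg Prod.snd (hker' j x)
        simp only [D_apply, Prod.snd_add, Prod.snd_zero] at h
        show (Q.d j (j + 1)).hom (u j x).2 = (u (j + 1) ((P.d j (j + 1)).hom x)).2
        rw [hPd, map_neg, Prod.snd_neg]
        exact eq_neg_of_add_eq_zero_right h }
  have hDf : ∀ (j : ℤ) (z : C Q X j), D Q X u j z =
      (-(P.d (j + 1) (j + 1 + 1)).hom z.1, (f.f (j + 1)).hom z.1 + (Q.d j (j + 1)).hom z.2) := fun j z => by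
    rw [D_apply, hPd, neg_neg]
    exact Prod.ext (add_zero _) rfl
  refine ⟨P, f, quasiIso_of_coneExact f ?_, fun _ => rfl, fun i hi => ?_, ⟨?_⟩⟩
  · rintro a _ _ _ rfl rfl rfl q y hq hy
    have hz : D Q X u (a + 1) (q, -y) = 0 := by
      rw [hDf]
      refine Prod.ext ?_ ?_
      · show -(P.d (a + 1 + 1) (a + 1 + 1 + 1)).hom q = 0
        rw [hq, neg_zero]
      · show (f.f (a + 1 + 1)).hom q + (Q.d (a + 1) (a + 1 + 1)).hom (-y) = 0
        rw [map_neg, ← sub_eq_add_neg, sub_eq_zero]; exact hy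
    have hz' : (q, -y) ∈ LinearMap.range (D Q X u a) := by rw [(hu a).2]; exact hz
    obtain ⟨⟨x, w⟩, hxw⟩ := hz'
    rw [hDf] at hxw
    obtain ⟨h1, h2⟩ := Prod.ext_iff.1 hxw
    refine ⟨-x, -w, ?_, ?_⟩
    · rw [map_neg]; exact h1
    · rw [map_neg, map_neg, ← neg_add, neg_eq_iff_eq_neg]; exact h2
  · haveI := subsingleton_X H i (ModuleCat.subsingleton_of_isZero (hEb i hi))
    exact ModuleCat.isZero_of_subsingleton (X i)
  · refine HomologicalComplex.Hom.isoOfComponents e fun j k hjk => ?_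
    obtain rfl : j + 1 = k := hjk
    refine hom_ext_eta I fun x => ?_
    have hc := (hu (j - 1)).1.1
    obtain ⟨a, rfl⟩ : ∃ a, j = a + 1 := ⟨j - 1, by omega⟩
    have h := congrArg Prod.fst ((hu a).1.1 (x, 0))
    show (E.d (a + 1) (a + 1 + 1)).hom ((e (a + 1)).hom.hom (eta I (X (a + 1)) x)) =
      (e (a + 1 + 1)).hom.hom (((ModuleCat.extendScalars.{u, u, u} (Ideal.Quotient.mk I)).map
        (P.d (a + 1) (a + 1 + 1))).hom (eta I (X (a + 1)) x))
    rw [← eta_natural]
    have h' : p (a + 1 + 1) (D Q X u a (x, 0)).1 = -(E.d (a + 1) (a + 1 + 1)).hom (p (a + 1) x) := h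
    rw [hDf] at h'
    rw [← neg_inj]
    refine h'.symm.trans ?_
    exact map_neg (p (a + 1 + 1)) _

end Groth.L10.LiftCx
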