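import Groth.Agent.L10.DRing.LiftCx.Derived
import Groth.Agent.L10.DRing.LiftCx.Classes
import Groth.Agent.L10.DRing.TorTest
import Mathlib.RingTheory.LocalRing.Module
import Mathlib.LinearAlgebra.FiniteDimensional.Basic
import Mathlib.RingTheory.OrzechProperty

/-! Minimal free representatives over a local ring. -/

set_option autoImplicit false

universe u

open CategoryTheory CategoryTheory.Limits
open scoped TensorProduct

attribute [local instance] HasDerivedCategory.standard

set_option backward.isDefEq.respectTransparency false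
set_option backward.isDefEq.respectTransparency.types false

namespace Groth.L10.LiftCx

section Field

variable {k : Type u} [Field k] (F : DRing.Cx k)

/-- cycles modulo boundaries -/
abbrev Hc (i : ℤ) : Type u :=
  (LinearMap.ker (F.d i (i + 1)).hom) ⧸
    (LinearMap.range (F.d (i - 1) i).hom).comap (LinearMap.ker (F.d i (i + 1)).hom).subtype

theorem exists_zero_model :
    ∃ (E : DRing.Cx k) (f : E ⟶ F), QuasiIso f ∧ (∀ i j, E.d i j = 0) ∧
      ∀ i, Nonempty (E.X i ≅ ModuleCat.of k (Hc F i)) := by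
  choose s hs using fun i => Module.projective_lifting_property
    ((LinearMap.range (F.d (i - 1) i).hom).comap (LinearMap.ker (F.d i (i + 1)).hom).subtype).mkQ
    (LinearMap.id : Hc F i →ₗ[k] Hc F i) (Submodule.mkQ_surjective _)
  let E : DRing.Cx k :=
    { X := fun i => ModuleCat.of k (Hc F i)
      d := fun _ _ => 0
      shape := fun _ _ _ => rfl
      d_comp_d' := fun _ _ _ _ _ => comp_zero }
  let f : E ⟶ F :=
    { f := fun i => ModuleCat.ofHom ((Submodule.subtype _).comp (s i))
      comm' := fun i j hij => by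
        obtain rfl : i + 1 = j := hij
        refine ModuleCat.hom_ext (LinearMap.ext fun x => ?_)
        show (F.d i (i + 1)).hom (s i x).1 = ((E.d i (i + 1)) ≫ ModuleCat.ofHom _).hom x
        rw [show E.d i (i + 1) = 0 from rfl, zero_comp]
        exact (s i x).2 }
  refine ⟨E, f, quasiIso_of_coneExact f ?_, fun _ _ => rfl, fun i => ⟨Iso.refl _⟩⟩
  intro h i j l hhi hij hjl q x hq hx
  obtain rfl : h = i - 1 := by omega
  obtain rfl : i + 1 = j := hij
  have h0 : q = 0 := by
    refine (LinearMap.congr_fun (hs (i + 1)) q).symm.trans ?_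
    refine (Submodule.Quotient.mk_eq_zero _).2 ?_
    show (s (i + 1) q).1 ∈ LinearMap.range (F.d (i + 1 - 1) (i + 1)).hom
    have key : ∀ a, a = i → (s (i + 1) q).1 ∈ LinearMap.range (F.d a (i + 1)).hom := by
      rintro a rfl
      exact ⟨x, hx.symm⟩
    exact key _ (by omega)
  have hx0 : (F.d i (i + 1)).hom x = 0 := hx.symm.trans (by rw [h0]; exact map_zero _)
  have hm := LinearMap.congr_fun (hs i) (Submodule.Quotient.mk ⟨x, hx0⟩)
  obtain ⟨y, hy⟩ := (Submodule.Quotient.eq _).1 hm.symm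
  refine ⟨Submodule.Quotient.mk ⟨x, hx0⟩, y, h0.symm, ?_⟩
  show (s i (Submodule.Quotient.mk ⟨x, hx0⟩)).1 + (F.d (i - 1) i).hom y = x
  rw [hy]
  exact add_sub_cancel _ _

/-- homology of a complex with zero differentials -/
theorem nonempty_homology_iso_of_zero (E : DRing.Cx k) (hd : ∀ i j, E.d i j = 0) (i : ℤ) :
    Nonempty (E.homology i ≅ E.X i) :=
  haveI := E.isIso_homologyπ (i - 1) i (by simp) (hd _ _)
  haveI := E.isIso_iCycles i (i + 1) (by simp) (hd _ _)
  ⟨(asIso (E.homologyπ i)).symm ≪≫ asIso (E.iCycles i)⟩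

theorem finrank_HD {K : Dual.D k} (e : DRing.toD F ≅ K) (i : ℤ) :
    Nonempty (Hc F i ≃ₗ[k] Dual.HD k K i) := by
  obtain ⟨E, f, hf, hd, he⟩ := exists_zero_model F
  haveI := hf
  obtain ⟨e1⟩ := nonempty_homology_iso_of_zero E hd i
  obtain ⟨e2⟩ := he i
  exact ⟨(e2.symm ≪≫ e1.symm ≪≫ asIso (HomologicalComplex.homologyMap f i) ≪≫
    ((DerivedCategory.homologyFunctorFactors (ModuleCat.{u} k) i).app F).symm ≪≫
    (DerivedCategory.homologyFunctor (ModuleCat.{u} k) i).mapIso e).toLinearEquiv⟩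

theorem d_eq_zero_of_finrank [∀ i, Module.Finite k (F.X i)]
    (h : ∀ i, Module.finrank k (F.X i) = Module.finrank k (Hc F i)) (i : ℤ) : (F.d i (i + 1)).hom = 0 := by
  refine LinearMap.ker_eq_top.1 (Submodule.eq_top_of_finrank_eq ?_)
  exact le_antisymm (Submodule.finrank_le _) ((h i).trans_le (Submodule.finrank_quotient_le _))

end Field

section Local

variable {R : Type u} [CommRing R] [IsLocalRing R]

theorem homotopy_of_Q_eq {P L : DRing.Cx R} [P.IsKProjective] (f g : P ⟶ L)
    (h : DerivedCategory.Q.map f = DerivedCategory.Q.map g) : Nonempty (Homotopy f g) := by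
  refine ⟨HomotopyCategory.homotopyOfEq _ _ ((CochainComplex.IsKProjective.Qh_map_bijective P _).1 ?_)⟩
  have n1 := (DerivedCategory.quotientCompQhIso (ModuleCat.{u} R)).hom.naturality f
  have n2 := (DerivedCategory.quotientCompQhIso (ModuleCat.{u} R)).hom.naturality g
  simp only [Functor.comp_map] at n1 n2
  rw [← cancel_mono ((DerivedCategory.quotientCompQhIso (ModuleCat.{u} R)).hom.app L)]
  exact n1.trans ((congrArg (fun k => _ ≫ k) h).trans n2.symm)

theorem sub_mem_of_homotopy (I : Ideal R) {P : DRing.Cx R} {h : P ⟶ P} (H : Homotopy h (𝟙 P))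
    (hd : ∀ i j x, (P.d i j).hom x ∈ I • (⊤ : Submodule R (P.X j))) (i : ℤ) (x : P.X i) :
    (h.f i).hom x - x ∈ I • (⊤ : Submodule R (P.X i)) := by
  have hn : (ComplexShape.up ℤ).Rel i (i + 1) := rfl
  have hp : (ComplexShape.up ℤ).Rel (i - 1) i := sub_add_cancel i 1
  have hc := congrArg (fun φ => φ.hom x) (H.comm i)
  rw [dNext_eq _ hn, prevD_eq _ hp] at hc
  simp only [ModuleCat.hom_add, LinearMap.add_apply, ModuleCat.hom_comp, LinearMap.comp_apply,
    HomologicalComplex.id_f, ModuleCat.hom_id, LinearMap.id_apply] at hc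
  rw [hc, add_sub_cancel_right]
  exact add_mem (mem_smul_top_map I _ (hd _ _ _)) (hd _ _ _)

variable [DRing.HasLBaseChange (Ideal.Quotient.mk (IsLocalRing.maximalIdeal R))]

theorem minimal_spec (K : Dual.D R) (hK : DRing.IsPseudoCoherent' R K) :
    let κ := R ⧸ IsLocalRing.maximalIdeal R
    let Kκ := (DRing.LBaseChange (Ideal.Quotient.mk (IsLocalRing.maximalIdeal R))).obj K
    let Minimal := fun P : DRing.Cx R => (∃ b : ℤ, DRing.VanishesAbove P b) ∧
      (∀ i : ℤ, Module.Free R (P.X i) ∧ Module.Finite R (P.X i) ∧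
        Module.finrank R (P.X i) = Module.finrank κ (Dual.HD κ Kκ i)) ∧ Nonempty (DRing.toD P ≅ K)
    (∀ i : ℤ, Module.Finite κ (Dual.HD κ Kκ i)) ∧ (∃ b : ℤ, ∀ i : ℤ, b < i → Subsingleton (Dual.HD κ Kκ i)) ∧
      (∃ P : DRing.Cx R, Minimal P) ∧ ∀ P Q : DRing.Cx R, Minimal P → Minimal Q → Nonempty (P ≅ Q) := by
  intro κ Kκ Minimal
  classical
  letI : Field κ := Ideal.Quotient.field (IsLocalRing.maximalIdeal R)
  have hI : IsLocalRing.maximalIdeal R ≤ Ideal.jacobson (⊥ : Ideal R) :=
    (IsLocalRing.jacobson_eq_maximalIdeal ⊥ bot_ne_top).ge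
  obtain ⟨Q, c, hQb, hQf, ⟨eQ⟩⟩ := hK
  have hQp : ∀ i, Module.Projective R (Q.X i) := fun i => haveI := (hQf i).2; Module.Projective.of_free
  haveI := isKProjective_of_vanishesAbove Q c hQb hQp
  let F : DRing.Cx κ := (redCx (IsLocalRing.maximalIdeal R)).obj Q
  let eF : DRing.toD F ≅ Kκ := (Groth.L02.PC.lbcIso _ Q).symm ≪≫
    (DRing.LBaseChange (Ideal.Quotient.mk (IsLocalRing.maximalIdeal R))).mapIso eQ
  have hfin : ∀ i, Module.Finite κ (Hc F i) := fun i => by
    haveI : Module.Finite R (Q.X i) := (hQf i).1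
    haveI : Module.Finite κ (F.X i) :=
      Module.Finite.equiv (Groth.L29.FlatBC.extEquiv R κ (Q.X i)).symm
    infer_instance
  have hHD : ∀ i, Module.Finite κ (Dual.HD κ Kκ i) := fun i => by
    obtain ⟨e⟩ := finrank_HD F eF i
    haveI := hfin i
    exact Module.Finite.equiv e
  refine ⟨hHD, ⟨c, fun i hi => ?_⟩, ?_, ?_⟩
  · exact ModuleCat.subsingleton_of_isZero ((Groth.L10.DR.HH_iso_zero eF i).2
      ((HomologicalComplex.exactAt_iff_isZero_homology _ i).1
        (HomologicalComplex.ExactAt.of_isZero ((ModuleCat.extendScalars _).map_isZero (hQb i hi)))))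
  · obtain ⟨E, f, hf, hd, he⟩ := exists_zero_model F
    haveI := hf
    haveI : IsIso (DerivedCategory.Q.map f) := (DerivedCategory.isIso_Q_map_iff_quasiIso _ f).2 hf
    have hEb : DRing.VanishesAbove E c := fun i hi => by
      haveI : Subsingleton (F.X i) :=
        ModuleCat.subsingleton_of_isZero ((ModuleCat.extendScalars _).map_isZero (hQb i hi))
      obtain ⟨e⟩ := he i
      haveI : Subsingleton (Hc F i) := (Submodule.mkQ_surjective _).subsingleton
      exact (ModuleCat.isZero_of_subsingleton (ModuleCat.of κ (Hc F i))).of_iso e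
    have hX : ∀ i, ∃ n : ℕ, Nonempty (κ ⊗[R] (Fin n → R) ≃ₗ[κ] E.X i) := fun i => by
      obtain ⟨e⟩ := he i
      haveI := hfin i
      haveI : Module.Finite κ (E.X i) := Module.Finite.equiv e.symm.toLinearEquiv
      exact exists_free_lift _ (E.X i)
    choose n hn using hX
    let Pc : ObjectProperty (ModuleCat.{u} R) := fun Y => Module.Finite R Y ∧ Module.Free R Y
    haveI : Pc.IsClosedUnderIsomorphisms := ⟨fun e h => by
      obtain ⟨_, _⟩ := h
      exact ⟨Module.Finite.equiv e.toLinearEquiv, Module.Free.of_equiv e.toLinearEquiv⟩⟩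
    obtain ⟨P, hPb, hPX, hPK, -⟩ := exists_rep_lift K Q c hQb eQ Pc
      (fun Y h => haveI := h.2; Module.Projective.of_free) hQp
      (fun Y Z _ h => by
        haveI : Module.Finite R (↑Y × ↑Z) := h.1
        haveI : Module.Free R (↑Y × ↑Z) := h.2
        haveI := finite_snd (R := R) Y Z
        haveI : Module.Projective R (↑Y × ↑Z) := Module.Projective.of_free
        haveI := projective_snd (R := R) Y Z
        exact ⟨‹_›, Module.free_of_flat_of_isLocalRing⟩)
      (fun Y Z f _ hZ h => haveI := hZ.1; surjective_of_finite _ hI f.hom h)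
      (fun Y i hY => by
        obtain ⟨_, _⟩ := hY
        obtain ⟨_, _⟩ := hQf i
        exact ⟨inferInstanceAs (Module.Finite R (↑Y × ↑(Q.X i))), inferInstanceAs (Module.Free R (↑Y × ↑(Q.X i)))⟩)
      E c hEb ⟨asIso (DerivedCategory.Q.map f) ≪≫ eF⟩ (fun i => ModuleCat.of R (Fin (n i) → R))
      (fun i => ⟨inferInstanceAs (Module.Finite R (Fin (n i) → R)), inferInstanceAs (Module.Free R (Fin (n i) → R))⟩)
      (fun i => tensorIso _ (E.X i) (hn i).some)
    refine ⟨P, ⟨c, hPb⟩, fun i => ?_, hPK⟩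
    rw [hPX i]
    refine ⟨inferInstanceAs (Module.Free R (Fin (n i) → R)), inferInstanceAs (Module.Finite R (Fin (n i) → R)), ?_⟩
    obtain ⟨e⟩ := he i
    obtain ⟨e'⟩ := finrank_HD F eF i
    show Module.finrank R (Fin (n i) → R) = _
    rw [← e'.finrank_eq, ← e.toLinearEquiv.finrank_eq, ← (hn i).some.finrank_eq, Module.finrank_baseChange]
  · intro P L hP hL
    obtain ⟨⟨bP, hPb⟩, hPf, ⟨eP⟩⟩ := hP
    obtain ⟨⟨bL, hLb⟩, hLf, ⟨eL⟩⟩ := hL
    have key : ∀ (P : DRing.Cx R) (b : ℤ), DRing.VanishesAbove P b →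
        (∀ i : ℤ, Module.Free R (P.X i) ∧ Module.Finite R (P.X i) ∧
          Module.finrank R (P.X i) = Module.finrank κ (Dual.HD κ Kκ i)) → (DRing.toD P ≅ K) →
        P.IsKProjective ∧ ∀ i j x, (P.d i j).hom x ∈ IsLocalRing.maximalIdeal R • (⊤ : Submodule R (P.X j)) := by
      intro P b hb hf eP
      haveI hkp := isKProjective_of_vanishesAbove P b hb fun i => haveI := (hf i).1; Module.Projective.of_free
      refine ⟨hkp, ?_⟩
      let G : DRing.Cx κ := (redCx (IsLocalRing.maximalIdeal R)).obj P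
      let eG : DRing.toD G ≅ Kκ := (Groth.L02.PC.lbcIso _ P).symm ≪≫
        (DRing.LBaseChange (Ideal.Quotient.mk (IsLocalRing.maximalIdeal R))).mapIso eP
      haveI : ∀ i, Module.Finite κ (G.X i) := fun i =>
        haveI := (hf i).2.1
        Module.Finite.equiv (Groth.L29.FlatBC.extEquiv R κ (P.X i)).symm
      have h0 := d_eq_zero_of_finrank G fun i => by
        obtain ⟨e⟩ := finrank_HD G eG i
        haveI := (hf i).1
        rw [e.finrank_eq, ← (hf i).2.2]
        exact (Groth.L29.FlatBC.extEquiv R κ (P.X i)).finrank_eq.trans Module.finrank_baseChange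
      intro i j x
      rcases eq_or_ne (i + 1) j with rfl | hij
      · refine eta_ker _ _ _ ?_
        rw [eta_natural]
        exact LinearMap.congr_fun (h0 i) _
      · rw [P.shape i j hij]
        exact zero_mem _
    obtain ⟨hkP, hdP⟩ := key P bP hPb hPf eP
    obtain ⟨hkL, hdL⟩ := key L bL hLb hLf eL
    obtain ⟨f, hf⟩ := Groth.L02.PC.exists_chainMap (eP ≪≫ eL.symm).hom
    obtain ⟨g, hg⟩ := Groth.L02.PC.exists_chainMap (eP ≪≫ eL.symm).inv
    obtain ⟨H1⟩ := homotopy_of_Q_eq (f ≫ g) (𝟙 P)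
      (by rw [Functor.map_comp, hf, hg, Iso.hom_inv_id, CategoryTheory.Functor.map_id])
    obtain ⟨H2⟩ := homotopy_of_Q_eq (g ≫ f) (𝟙 L)
      (by rw [Functor.map_comp, hf, hg, Iso.inv_hom_id, CategoryTheory.Functor.map_id])
    have hbij : ∀ (M : DRing.Cx R) (h : M ⟶ M), (∀ i, Module.Finite R (M.X i)) → Homotopy h (𝟙 M) →
        (∀ i j x, (M.d i j).hom x ∈ IsLocalRing.maximalIdeal R • (⊤ : Submodule R (M.X j))) →
        ∀ i, Function.Bijective (h.f i).hom := fun M h hfin H hd i => by
      haveI := hfin i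
      refine OrzechProperty.bijective_of_surjective_endomorphism _ (surjective_of_finite _ hI _ (top_le_iff.1 fun x _ => ?_))
      refine Submodule.mem_sup.2 ⟨(h.f i).hom x, ⟨x, rfl⟩, x - (h.f i).hom x, ?_, add_sub_cancel _ _⟩
      rw [← neg_sub]
      exact neg_mem (sub_mem_of_homotopy _ H hd i x)
    have h1 := hbij P (f ≫ g) (fun i => (hPf i).2.1) H1 hdP
    have h2 := hbij L (g ≫ f) (fun i => (hLf i).2.1) H2 hdL
    haveI : ∀ i, IsIso (f.f i) := fun i => by
      rw [ConcreteCategory.isIso_iff_bijective]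
      exact ⟨Function.Injective.of_comp (f := (g.f i).hom) (g := (f.f i).hom) (h1 i).1,
        Function.Surjective.of_comp (g := (g.f i).hom) (f := (f.f i).hom) (h2 i).2⟩
    haveI : IsIso f := HomologicalComplex.Hom.isIso_of_components f
    exact ⟨asIso f⟩

end Local

end Groth.L10.LiftCx
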