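import Groth.Prelude.Def_DRing2
import Groth.Agent.L02.PC.Cone
import Mathlib.RingTheory.Ideal.Quotient.Operations
import Mathlib.LinearAlgebra.Finsupp.VectorSpace
import Mathlib.Algebra.Module.Projective

/-! Lifting a complex along `R → R ⧸ I`, one degree at a time. -/

set_option autoImplicit false

universe u

open CategoryTheory CategoryTheory.Limits

namespace Groth.L10.LiftCx

variable {R : Type u} [CommRing R] (I : Ideal R)

theorem mem_smul_top_map {M N : Type*} [AddCommGroup M] [Module R M] [AddCommGroup N] [Module R N]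
    (f : M →ₗ[R] N) {x : M} (hx : x ∈ I • (⊤ : Submodule R M)) : f x ∈ I • (⊤ : Submodule R N) := by
  have h := Submodule.mem_map_of_mem (f := f) hx
  rw [Submodule.map_smul''] at h
  exact Submodule.smul_mono le_rfl le_top h

theorem mem_smul_top_prod {M N : Type*} [AddCommGroup M] [Module R M] [AddCommGroup N] [Module R N]
    {x : M × N} (h1 : x.1 ∈ I • (⊤ : Submodule R M)) (h2 : x.2 ∈ I • (⊤ : Submodule R N)) :
    x ∈ I • (⊤ : Submodule R (M × N)) := by
  have h : x = LinearMap.inl R M N x.1 + LinearMap.inr R M N x.2 := by simp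
  rw [h]
  exact add_mem (mem_smul_top_map I _ h1) (mem_smul_top_map I _ h2)

variable (Q : DRing.Cx R) (E QB : DRing.Cx (R ⧸ I)) (α : E ⟶ QB)
variable (X : ℤ → ModuleCat.{u} R)
variable (p : ∀ i, X i →ₛₗ[Ideal.Quotient.mk I] E.X i) (η : ∀ i, Q.X i →ₛₗ[Ideal.Quotient.mk I] QB.X i)

/-- the lifted cone in degree `i` -/
abbrev C (i : ℤ) : Type u := X (i + 1) × Q.X i

/-- reduction of the lifted cone -/
def red (i : ℤ) : C Q X i →ₛₗ[Ideal.Quotient.mk I] (E.X (i + 1) × QB.X i) where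
  toFun z := (p (i + 1) z.1, η i z.2)
  map_add' _ _ := Prod.ext (map_add _ _ _) (map_add _ _ _)
  map_smul' _ _ := Prod.ext (map_smulₛₗ _ _ _) (map_smulₛₗ _ _ _)

/-- differential of the reduced cone -/
noncomputable def dbar (i : ℤ) (w : E.X (i + 1) × QB.X i) : E.X (i + 1 + 1) × QB.X (i + 1) :=
  (-(E.d (i + 1) (i + 1 + 1)).hom w.1, (α.f (i + 1)).hom w.1 + (QB.d i (i + 1)).hom w.2)

/-- lifted differential -/
noncomputable def D (u : ∀ i, X i →ₗ[R] C Q X i) (i : ℤ) : C Q X i →ₗ[R] C Q X (i + 1) :=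
  (u (i + 1)).coprod ((LinearMap.inr R (X (i + 1 + 1)) (Q.X (i + 1))).comp (Q.d i (i + 1)).hom)

theorem D_apply (u : ∀ i, X i →ₗ[R] C Q X i) (i : ℤ) (z : C Q X i) :
    D Q X u i z = u (i + 1) z.1 + (0, (Q.d i (i + 1)).hom z.2) := rfl

variable (Pc : ObjectProperty (ModuleCat.{u} R))

/-- the state at level `i` -/
def Good (u : ∀ i, X i →ₗ[R] C Q X i) (i : ℤ) : Prop :=
  (∀ z, red I Q E QB X p η (i + 1) (D Q X u i z) = dbar I E QB α i (red I Q E QB X p η i z)) ∧
  Pc (ModuleCat.of R (LinearMap.ker (D Q X u i))) ∧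
  (∀ w, dbar I E QB α i w = 0 → ∃ z, D Q X u i z = 0 ∧ red I Q E QB X p η i z = w) ∧
  ∀ z, D Q X u i z = 0 → red I Q E QB X p η i z = 0 → z ∈ I • LinearMap.ker (D Q X u i)

/-- exactness between level `i` and `i + 1` -/
def Exact' (u : ∀ i, X i →ₗ[R] C Q X i) (i : ℤ) : Prop :=
  LinearMap.range (D Q X u i) = LinearMap.ker (D Q X u (i + 1))

structure Hyp : Prop where
  iso : Pc.IsClosedUnderIsomorphisms
  proj : ∀ Y, Pc Y → Module.Projective R Y
  cancel : ∀ Y Z : ModuleCat.{u} R, Pc Y → Pc (ModuleCat.of R (Y × Z)) → Pc Z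
  surj : ∀ (Y Z : ModuleCat.{u} R) (f : Y ⟶ Z), Pc Y → Pc Z →
      LinearMap.range f.hom ⊔ I • (⊤ : Submodule R Z) = ⊤ → Function.Surjective f.hom
  pX : ∀ i, Pc (X i)
  pC : ∀ i, Pc (ModuleCat.of R (C Q X i))
  p_surj : ∀ i, Function.Surjective (p i)
  p_ker : ∀ i x, p i x = 0 → x ∈ I • (⊤ : Submodule R (X i))
  η_surj : ∀ i, Function.Surjective (η i)
  η_ker : ∀ i x, η i x = 0 → x ∈ I • (⊤ : Submodule R (Q.X i))
  η_d : ∀ i j x, η j ((Q.d i j).hom x) = (QB.d i j).hom (η i x)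
  exact : ∀ h i j k : ℤ, h + 1 = i → i + 1 = j → j + 1 = k → Groth.L02.PC.ConeExact α h i j k

variable {I Q E QB α X p η Pc}

theorem step (H : Hyp I Q E QB α X p η Pc) (u : ∀ i, X i →ₗ[R] C Q X i) (i : ℤ)
    (hg : Good I Q E QB α X p η Pc u (i + 1)) :
    ∃ v : X (i + 1) →ₗ[R] C Q X (i + 1), ∀ u' : ∀ i, X i →ₗ[R] C Q X i,
      u' (i + 1) = v → u' (i + 1 + 1) = u (i + 1 + 1) →
      Good I Q E QB α X p η Pc u' i ∧ Exact' Q X u' i := by
  obtain ⟨hcompat, hV, hlift, hinter⟩ := hg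
  haveI := H.iso
  let V := LinearMap.ker (D Q X u (i + 1))
  letI : Module R (E.X (i + 1 + 1) × QB.X (i + 1)) := Module.compHom _ (Ideal.Quotient.mk I)
  let f : V →ₗ[R] (E.X (i + 1 + 1) × QB.X (i + 1)) :=
    { toFun := fun z => red I Q E QB X p η (i + 1) z.1
      map_add' := fun a b => map_add _ _ _
      map_smul' := fun r a => map_smulₛₗ (red I Q E QB X p η (i + 1)) r a.1 }
  let g : X (i + 1) →ₗ[R] (E.X (i + 1 + 1) × QB.X (i + 1)) :=
    { toFun := fun x => (-(E.d (i + 1) (i + 1 + 1)).hom (p (i + 1) x), (α.f (i + 1)).hom (p (i + 1) x))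
      map_add' := fun a b => by simp only [map_add, neg_add, Prod.mk_add_mk]
      map_smul' := fun r a => by
        refine Prod.ext ?_ ?_
        · show -(E.d (i + 1) (i + 1 + 1)).hom (p (i + 1) (r • a)) =
            Ideal.Quotient.mk I r • -(E.d (i + 1) (i + 1 + 1)).hom (p (i + 1) a)
          rw [map_smulₛₗ, map_smul, smul_neg]
        · show (α.f (i + 1)).hom (p (i + 1) (r • a)) = Ideal.Quotient.mk I r • (α.f (i + 1)).hom (p (i + 1) a)
          rw [map_smulₛₗ, map_smul] }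
  have hgcyc : ∀ x, dbar I E QB α (i + 1) (g x) = 0 := fun x => by
    have h1 := congrArg (fun φ => φ.hom (p (i + 1) x)) (E.d_comp_d (i + 1) (i + 1 + 1) (i + 1 + 1 + 1))
    have h2 := congrArg (fun φ => φ.hom (p (i + 1) x)) (α.comm (i + 1) (i + 1 + 1))
    simp only [ModuleCat.hom_comp, LinearMap.comp_apply, ModuleCat.hom_zero, LinearMap.zero_apply] at h1 h2
    refine Prod.ext ?_ ?_
    · show -(E.d (i + 1 + 1) (i + 1 + 1 + 1)).hom (-(E.d (i + 1) (i + 1 + 1)).hom (p (i + 1) x)) = 0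
      rw [map_neg, neg_neg]; exact h1
    · show (α.f (i + 1 + 1)).hom (-(E.d (i + 1) (i + 1 + 1)).hom (p (i + 1) x)) +
        (QB.d (i + 1) (i + 1 + 1)).hom ((α.f (i + 1)).hom (p (i + 1) x)) = 0
      rw [map_neg, ← h2, neg_add_cancel]
  have hmem : ∀ x, g x ∈ LinearMap.range f := fun x => by
    obtain ⟨z, hz, hzr⟩ := hlift _ (hgcyc x)
    exact ⟨⟨z, hz⟩, hzr⟩
  haveI := H.proj _ (H.pX (i + 1))
  obtain ⟨v₀, hv₀⟩ := Module.projective_lifting_property f.rangeRestrict (g.codRestrict _ hmem) f.surjective_rangeRestrict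
  have hv₀' : ∀ x, red I Q E QB X p η (i + 1) (v₀ x).1 =
      (-(E.d (i + 1) (i + 1 + 1)).hom (p (i + 1) x), (α.f (i + 1)).hom (p (i + 1) x)) := fun x =>
    congrArg Subtype.val (LinearMap.congr_fun hv₀ x)
  refine ⟨V.subtype.comp v₀, fun u' hu1 hu2 => ?_⟩
  have hD2 : D Q X u' (i + 1) = D Q X u (i + 1) := by rw [D, D, hu2]
  have hD : ∀ z : C Q X i, D Q X u' i z = (v₀ z.1).1 + (0, (Q.d i (i + 1)).hom z.2) := fun z => by
    rw [D_apply, hu1]; rfl
  have hred : ∀ z, red I Q E QB X p η (i + 1) (D Q X u' i z) = dbar I E QB α i (red I Q E QB X p η i z) := fun z => by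
    rw [hD, map_add, hv₀']
    refine Prod.ext ?_ ?_
    · show -(E.d (i + 1) (i + 1 + 1)).hom (p (i + 1) z.1) + p (i + 1 + 1) 0 = _
      rw [map_zero, add_zero]; rfl
    · show (α.f (i + 1)).hom (p (i + 1) z.1) + η (i + 1) ((Q.d i (i + 1)).hom z.2) = _
      rw [H.η_d]; rfl
  have hDV : ∀ z : C Q X i, D Q X u' i z ∈ V := fun z => by
    rw [hD]
    refine add_mem (v₀ z.1).2 ?_
    show D Q X u (i + 1) (0, (Q.d i (i + 1)).hom z.2) = 0
    rw [D_apply, map_zero, zero_add]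
    have h := congrArg (fun φ => φ.hom z.2) (Q.d_comp_d i (i + 1) (i + 1 + 1))
    simp only [ModuleCat.hom_comp, LinearMap.comp_apply, ModuleCat.hom_zero, LinearMap.zero_apply] at h
    exact Prod.ext rfl h
  let Dv : C Q X i →ₗ[R] V := (D Q X u' i).codRestrict V hDV
  have hredsurj : ∀ w, ∃ z, red I Q E QB X p η i z = w := fun w => by
    obtain ⟨a, ha⟩ := H.p_surj (i + 1) w.1
    obtain ⟨b, hb⟩ := H.η_surj i w.2
    exact ⟨(a, b), Prod.ext ha hb⟩
  have hsurj : Function.Surjective Dv := by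
    refine H.surj (ModuleCat.of R (C Q X i)) (ModuleCat.of R V) (ModuleCat.ofHom Dv) (H.pC i) hV (top_le_iff.1 ?_)
    rintro ⟨z, hz⟩ -
    have hcyc : dbar I E QB α (i + 1) (red I Q E QB X p η (i + 1) z) = 0 := by
      rw [← hcompat, show D Q X u (i + 1) z = 0 from hz, map_zero]
    obtain ⟨hc1, hc2⟩ := Prod.ext_iff.1 hcyc
    obtain ⟨q, y, hq, hy⟩ := H.exact i (i + 1) (i + 1 + 1) (i + 1 + 1 + 1) rfl rfl rfl
      (red I Q E QB X p η (i + 1) z).1 (-(red I Q E QB X p η (i + 1) z).2)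
      (neg_eq_zero.1 hc1) (by rw [map_neg]; exact eq_neg_of_add_eq_zero_left hc2)
    obtain ⟨w, hw⟩ := hredsurj (-q, -y)
    have hzero : red I Q E QB X p η (i + 1) (z - D Q X u' i w) = 0 := by
      rw [map_sub, hred, hw, sub_eq_zero]
      refine Prod.ext ?_ ?_
      · show _ = -(E.d (i + 1) (i + 1 + 1)).hom (-q)
        rw [map_neg, neg_neg]; exact hq.symm
      · show _ = (α.f (i + 1)).hom (-q) + (QB.d i (i + 1)).hom (-y)
        rw [map_neg, map_neg, ← neg_add]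
        exact (neg_eq_iff_eq_neg.2 hy).symm
    have hI := hinter _ (sub_mem hz (hDV w)) hzero
    refine Submodule.mem_sup.2 ⟨Dv w, ⟨w, rfl⟩, ⟨z, hz⟩ - Dv w, ?_, add_sub_cancel _ _⟩
    exact (Submodule.mem_smul_top_iff I V _).2 hI
  haveI : Module.Projective R V := H.proj _ hV
  obtain ⟨s, hs⟩ := Module.projective_lifting_property Dv LinearMap.id hsurj
  have hs' : ∀ y, Dv (s y) = y := fun y => LinearMap.congr_fun hs y
  let K := LinearMap.ker (D Q X u' i)
  have hK : ∀ z, z - s (Dv z) ∈ K := fun z => by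
    show D Q X u' i (z - s (Dv z)) = 0
    rw [map_sub, sub_eq_zero]
    exact (congrArg Subtype.val (hs' (Dv z))).symm
  let r : C Q X i →ₗ[R] K := (LinearMap.id - s.comp Dv).codRestrict K hK
  have hr : ∀ z ∈ K, (r z).1 = z := fun z hz => by
    show z - s (Dv z) = z
    rw [show Dv z = 0 from Subtype.ext hz, map_zero, sub_zero]
  have hPK : Pc (ModuleCat.of R K) := by
    let e : C Q X i ≃ₗ[R] V × K :=
      { Dv.prod r with
        invFun := fun w => s w.1 + w.2.1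
        left_inv := fun z => show s (Dv z) + (z - s (Dv z)) = z from add_sub_cancel _ _
        right_inv := fun w => by
          have h0 : Dv w.2.1 = 0 := Subtype.ext w.2.2
          have h : Dv (s w.1 + w.2.1) = w.1 := by rw [map_add, hs', h0, add_zero]
          refine Prod.ext h (Subtype.ext ?_)
          show s w.1 + w.2.1 - s (Dv (s w.1 + w.2.1)) = w.2.1
          rw [h, add_sub_cancel_left] }
    exact H.cancel (ModuleCat.of R V) (ModuleCat.of R K) hV
      (Pc.prop_of_iso (e.toModuleIso (X₁ := C Q X i) (X₂ := V × K)) (H.pC i))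
  refine ⟨⟨hred, hPK, fun w hw => ?_, fun z hz hz0 => ?_⟩, ?_⟩
  · obtain ⟨z, hz⟩ := hredsurj w
    have h0 : red I Q E QB X p η (i + 1) (Dv z).1 = 0 := by
      show red I Q E QB X p η (i + 1) (D Q X u' i z) = 0
      rw [hred, hz, hw]
    have hI : Dv z ∈ I • (⊤ : Submodule R V) := (Submodule.mem_smul_top_iff I V _).2 (hinter _ (Dv z).2 h0)
    have hsI : red I Q E QB X p η i (s (Dv z)) = 0 := by
      refine Submodule.smul_induction_on (mem_smul_top_map I s hI) (fun a ha m _ => ?_) fun a b ha hb => ?_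
      · rw [map_smulₛₗ, Ideal.Quotient.eq_zero_iff_mem.2 ha, zero_smul]
      · rw [map_add, ha, hb, add_zero]
    exact ⟨z - s (Dv z), hK z, by rw [map_sub, hsI, sub_zero, hz]⟩
  · have h1 : z ∈ I • (⊤ : Submodule R (C Q X i)) := by
      obtain ⟨a, b⟩ := z
      obtain ⟨ha, hb⟩ := Prod.ext_iff.1 hz0
      exact mem_smul_top_prod I (H.p_ker _ _ ha) (H.η_ker _ _ hb)
    have h2 := (Submodule.mem_smul_top_iff I K _).1 (mem_smul_top_map I r h1)
    rwa [hr z hz] at h2
  · rw [Exact', hD2]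
    ext z
    refine ⟨?_, fun hz => ?_⟩
    · rintro ⟨w, rfl⟩
      exact hDV w
    · obtain ⟨w, hw⟩ := hsurj ⟨z, hz⟩
      exact ⟨w, congrArg Subtype.val hw⟩

end Groth.L10.LiftCx
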